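import Mathlib
import Cfsg.Agent.Lib.Solv.Frobenius
import Cfsg.Agent.Lib.Solv.Coprime

/-!
A subgroup central in each solvable subgroup above it is central.
-/

set_option autoImplicit false
set_option linter.style.haveILetI false

namespace Cfsg.Agent.FGS.CentralInSolvable

open scoped Pointwise

universe u

variable {G : Type u} [Group G]

/-- The property: central in all solvable overgroups. -/
def SolvCentral (A : Subgroup G) : Prop :=
  ∀ S : Subgroup G, A ≤ S → Group.IsSolvable S → ∀ a ∈ A, ∀ s ∈ S, a * s = s * a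

theorem SolvCentral.subgroupOf {A H : Subgroup G} (h : SolvCentral A) (hAH : A ≤ H) :
    SolvCentral (A.subgroupOf H) := by
  intro S hAS hS a ha s hs
  have hsol : Group.IsSolvable (S.map H.subtype) :=
    Group.isSolvable_of_surjective (H.subtype.subgroupMap_surjective S)
  refine Subtype.ext (h (S.map H.subtype) (fun x hx => ⟨⟨x, hAH hx⟩, hAS ?_, rfl⟩) hsol a ha s ⟨s, hs, rfl⟩)
  exact Subgroup.mem_subgroupOf.2 hx

/-- A normal subgroup and a cyclic one generate a solvable subgroup when the first is solvable. -/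
theorem solvable_sup (N : Subgroup G) [N.Normal] (hN : Group.IsSolvable N) (C : Subgroup G) (hC : Group.IsSolvable C) :
    Group.IsSolvable ↥(N ⊔ C) := by
  haveI := hN
  haveI := hC
  have hq : Group.IsSolvable ↥(C.map (QuotientGroup.mk' N)) :=
    Group.isSolvable_of_surjective ((QuotientGroup.mk' N).subgroupMap_surjective C)
  haveI := hq
  have hmap : (N ⊔ C).map (QuotientGroup.mk' N) = C.map (QuotientGroup.mk' N) := by
    rw [Subgroup.map_sup, (Subgroup.map_eq_bot_iff N).2 (le_of_eq (QuotientGroup.ker_mk' N).symm), bot_sup_eq]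
  let g : ↥(N ⊔ C) →* ↥(C.map (QuotientGroup.mk' N)) :=
    ((QuotientGroup.mk' N).comp (N ⊔ C).subtype).codRestrict _ fun x => by
      rw [← hmap]; exact ⟨x, x.2, rfl⟩
  refine Group.isSolvable_of_ker_le_range (Subgroup.inclusion (le_sup_left : N ≤ N ⊔ C)) g fun x hx => ?_
  have h1 : QuotientGroup.mk' N (x : G) = 1 := congrArg Subtype.val hx
  exact ⟨⟨x, (QuotientGroup.eq_one_iff _).1 h1⟩, rfl⟩

theorem solvable_of_equiv {H K : Type*} [Group H] [Group K] (e : H ≃* K) [Group.IsSolvable K] :
    Group.IsSolvable H :=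
  Group.isSolvable_of_surjective (f := (e.symm : K →* H)) e.symm.surjective

theorem main : ∀ (n : ℕ) (G : Type u) [Group G] [Finite G], Nat.card G ≤ n → ∀ A : Subgroup G,
    Group.IsSolvable A → SolvCentral A → A ≤ Subgroup.center G := by
  intro n
  induction n with
  | zero => intro G _ _ hn; exact absurd hn (Nat.not_le.2 Nat.card_pos)
  | succ n ih =>
    intro G _ _ hn A hA hc
    classical
    have hab : ∀ a ∈ A, ∀ b ∈ A, a * b = b * a := fun a ha b hb => hc A le_rfl hA a ha b hb
    by_contra hne
    set M := Subgroup.centralizer (A : Set G) with hM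
    have hAM : A ≤ M := fun a ha => Subgroup.mem_centralizer_iff.2 fun b hb => hab b hb a ha
    have hMtop : M ≠ ⊤ := fun h => hne fun a ha => Subgroup.mem_center_iff.2 fun g =>
      (Subgroup.mem_centralizer_iff.1 (h ▸ Subgroup.mem_top g : g ∈ M) a ha).symm
    -- every proper overgroup centralises
    have hprop : ∀ H : Subgroup G, A ≤ H → H ≠ ⊤ → H ≤ M := by
      intro H hAH hH x hx
      have hlt : Nat.card H ≤ n := by
        have h1 : Nat.card H < Nat.card G :=
          lt_of_le_of_ne (Subgroup.card_le_card_group H) fun e => hH (Subgroup.eq_top_of_card_eq H e)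
        omega
      haveI : Group.IsSolvable (A.subgroupOf H) := by
        haveI := hA
        exact solvable_of_equiv (Subgroup.subgroupOfEquivOfLe hAH)
      have h1 := ih H hlt (A.subgroupOf H) inferInstance (hc.subgroupOf hAH)
      refine Subgroup.mem_centralizer_iff.2 fun a ha => ?_
      exact (congrArg Subtype.val (Subgroup.mem_center_iff.1
        (h1 (Subgroup.mem_subgroupOf.2 ha : (⟨a, hAH ha⟩ : H) ∈ A.subgroupOf H)) ⟨x, hx⟩)).symm
    -- the centraliser is not normal, so self-normalising
    have hnorm : Subgroup.normalizer (M : Set G) = M := by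
      by_contra h
      have htop : Subgroup.normalizer (M : Set G) = ⊤ := by
        by_contra h'
        exact h (le_antisymm (hprop _ (hAM.trans Subgroup.le_normalizer) h') Subgroup.le_normalizer)
      haveI : M.Normal := Subgroup.normalizer_eq_top_iff.1 htop
      set N := Subgroup.normalClosure (A : Set G) with hN
      have hcomm : ∀ x ∈ N, ∀ y ∈ N, x * y = y * x := by
        have hgen : ∀ x ∈ Group.conjugatesOfSet (A : Set G), ∀ y ∈ Group.conjugatesOfSet (A : Set G),
            x * y = y * x := by
          intro x hx y hy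
          obtain ⟨a, ha, hxa⟩ := Group.mem_conjugatesOfSet_iff.1 hx
          obtain ⟨b, hb, hyb⟩ := Group.mem_conjugatesOfSet_iff.1 hy
          obtain ⟨g, rfl⟩ := isConj_iff.1 hxa
          obtain ⟨k, rfl⟩ := isConj_iff.1 hyb
          have hmem : g⁻¹ * k * b * (g⁻¹ * k)⁻¹ ∈ M := Subgroup.Normal.conj_mem inferInstance b (hAM hb) _
          have h1 := Subgroup.mem_centralizer_iff.1 hmem a ha
          calc g * a * g⁻¹ * (k * b * k⁻¹) = g * (a * (g⁻¹ * k * b * (g⁻¹ * k)⁻¹)) * g⁻¹ := by group
            _ = _ := by rw [h1]; group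
        intro x hx y hy
        have h2 : N ≤ Subgroup.centralizer (Group.conjugatesOfSet (A : Set G)) :=
          (Subgroup.closure_le _).2 fun z hz => Subgroup.mem_centralizer_iff.2 fun w hw => hgen w hw z hz
        have h3 : N ≤ Subgroup.centralizer (N : Set G) := by
          refine (Subgroup.closure_le _).2 fun z hz => Subgroup.mem_centralizer_iff.2 fun w hw => ?_
          exact (Subgroup.mem_centralizer_iff.1 (h2 hw) z hz).symm
        exact Subgroup.mem_centralizer_iff.1 (h3 hy) x hx
      have hNsol : Group.IsSolvable N :=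
        Group.isSolvable_of_comm fun a b => Subtype.ext (hcomm a a.2 b b.2)
      refine hMtop (top_le_iff.1 fun g _ => Subgroup.mem_centralizer_iff.2 fun a ha => ?_)
      exact hc (N ⊔ Subgroup.zpowers g) ((Subgroup.subset_normalClosure).trans (le_sup_left : N ≤ _))
        (solvable_sup N hNsol _ (Group.isSolvable_of_comm (by
          rintro ⟨_, i, rfl⟩ ⟨_, j, rfl⟩
          exact Subtype.ext (Commute.zpow_zpow_self g i j)))) a ha g
        (Subgroup.mem_sup_right (Subgroup.mem_zpowers g))
    -- trivial intersection modulo the centre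
    set Z := Subgroup.center G with hZ
    have hTI : ∀ g : G, g ∉ M → ∀ x ∈ M, g⁻¹ * x * g ∈ M → x ∈ Z := by
      intro g hg x hx hx'
      by_contra hxZ
      have hproper : ∀ y : G, y ∉ Z → Subgroup.centralizer ({y} : Set G) ≠ ⊤ := fun y hy h => hy
        (Subgroup.mem_center_iff.2 fun k => Subgroup.mem_centralizer_singleton_iff.1
          (h ▸ Subgroup.mem_top k : k ∈ Subgroup.centralizer ({y} : Set G)))
      have hle : ∀ y ∈ M, y ∉ Z → A ≤ Subgroup.centralizer ({y} : Set G) ∧ Subgroup.centralizer ({y} : Set G) ≤ M :=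
        fun y hy hyZ => by
          have hA' : A ≤ Subgroup.centralizer ({y} : Set G) := fun a ha =>
            Subgroup.mem_centralizer_singleton_iff.2 (Subgroup.mem_centralizer_iff.1 hy a ha)
          exact ⟨hA', hprop _ hA' (hproper y hyZ)⟩
      have hx'Z : g⁻¹ * x * g ∉ Z := fun h => hxZ (by
        have h1 := (inferInstance : Z.Normal).conj_mem _ h g
        rwa [show g * (g⁻¹ * x * g) * g⁻¹ = x by group] at h1)
      -- `A` lies in the conjugate
      set Mg := M.map (MulAut.conj g).toMonoidHom with hMg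
      have hAMg : A ≤ Mg := fun a ha => by
        rw [hMg, Subgroup.mem_map_equiv, MulAut.conj_symm_apply]
        refine (hle _ hx' hx'Z).2 (Subgroup.mem_centralizer_singleton_iff.2 ?_)
        have h1 := Subgroup.mem_centralizer_singleton_iff.1 ((hle x hx hxZ).1 ha)
        calc g⁻¹ * a * g * (g⁻¹ * x * g) = g⁻¹ * (a * x) * g := by group
          _ = _ := by rw [h1]; group
      have hcard : Nat.card Mg = Nat.card M :=
        (Nat.card_congr (M.equivMapOfInjective _ (MulAut.conj g).injective).toEquiv).symm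
      have hMgle : Mg ≤ M := hprop Mg hAMg fun h => hMtop (Subgroup.eq_top_of_card_eq M (by
        rw [← hcard, h, Subgroup.card_top]))
      have heq : Mg = M := Subgroup.eq_of_le_of_card_ge hMgle hcard.ge
      refine hg (hnorm ▸ ?_)
      refine Subgroup.mem_normalizer_fintype (S := (M : Set G)) fun y hy => ?_
      rw [SetLike.mem_coe, ← heq]
      exact ⟨y, hy, rfl⟩
    -- the Frobenius quotient
    have hZM : Z ≤ M := fun z hz => Subgroup.mem_centralizer_iff.2 fun a _ => Subgroup.mem_center_iff.1 hz a
    set π := QuotientGroup.mk' Z with hπ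
    have hπM : ∀ x : G, π x ∈ M.map π ↔ x ∈ M := fun x => ⟨fun hx => by
      have h1 : x ∈ (M.map π).comap π := hx
      rwa [Subgroup.comap_map_eq_self (by rw [hπ, QuotientGroup.ker_mk']; exact hZM)] at h1,
      fun hx => ⟨x, hx, rfl⟩⟩
    set C := M.map π with hC
    have hCbot : C ≠ ⊥ := fun h => hne fun a ha => by
      have h1 : π a ∈ C := ⟨a, hAM ha, rfl⟩
      rw [h, Subgroup.mem_bot] at h1
      exact (QuotientGroup.eq_one_iff a).1 h1
    have hFrob : Cfsg.IsFrobeniusComplement C := by
      refine ⟨hCbot, fun h => hMtop (top_le_iff.1 fun x _ => (hπM x).1 (h ▸ Subgroup.mem_top _)), ?_⟩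
      intro q hq
      obtain ⟨g, rfl⟩ := QuotientGroup.mk'_surjective Z q
      rw [Subgroup.eq_bot_iff_forall]
      rintro w ⟨hw1, hw2⟩
      obtain ⟨x, hx, rfl⟩ := hw1
      refine (QuotientGroup.eq_one_iff x).2 (hTI g (fun h => hq ((hπM g).2 h)) x hx ?_)
      change π x ∈ MulAut.conj (π g) • C at hw2
      rw [Subgroup.mem_pointwise_smul_iff_inv_smul_mem, MulAut.smul_def, MulAut.inv_apply,
        MulAut.conj_symm_apply] at hw2
      refine (hπM _).1 ?_
      simpa using hw2
    obtain ⟨N, -, hNn, hNC⟩ := Cfsg.Agent.Solv.frobenius_theorem hFrob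
    haveI := hNn
    have hNbot : N ≠ ⊥ := fun h => hFrob.2.1 (by
      have h1 := hNC.card_mul
      rw [h, Subgroup.card_bot, one_mul] at h1
      exact Subgroup.eq_top_of_card_eq C h1)
    have hdisj : N ⊓ C = ⊥ := hNC.disjoint.eq_bot
    -- `A` covers the complement
    set Ab := A.map π with hAb
    have hAbC : Ab ≤ C := Subgroup.map_mono hAM
    have hsup : N ⊔ Ab = ⊤ := by
      by_contra h
      have hle : (N ⊔ Ab).comap π ≤ M := hprop _ (fun a ha => (Subgroup.mem_sup_right ⟨a, ha, rfl⟩ : π a ∈ N ⊔ Ab))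
        fun h' => h (top_le_iff.1 fun q _ => by
          obtain ⟨x, rfl⟩ := QuotientGroup.mk'_surjective Z q
          exact (h' ▸ Subgroup.mem_top x : x ∈ (N ⊔ Ab).comap π))
      refine hNbot (le_bot_iff.1 (hdisj ▸ le_inf le_rfl fun q hq => ?_))
      obtain ⟨x, rfl⟩ := QuotientGroup.mk'_surjective Z q
      exact (hπM x).2 (hle (Subgroup.mem_sup_left hq))
    have hCab : ∀ c ∈ C, c ∈ Ab := fun c hcC => by
      obtain ⟨m, hm, a, ha, rfl⟩ := Subgroup.mem_sup_of_normal_left.1 (hsup ▸ Subgroup.mem_top c : c ∈ N ⊔ Ab)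
      have : m ∈ N ⊓ C := ⟨hm, by simpa using C.mul_mem hcC (C.inv_mem (hAbC ha))⟩
      rw [hdisj, Subgroup.mem_bot] at this
      simpa [this] using ha
    have hCsol : Group.IsSolvable C := Group.isSolvable_of_comm fun x y => Subtype.ext (by
      obtain ⟨a, ha, hax⟩ := hCab x x.2
      obtain ⟨b, hb, hby⟩ := hCab y y.2
      show (x : G ⧸ Z) * y = y * x
      rw [← hax, ← hby, ← map_mul, ← map_mul, hab a ha b hb])
    have hindex : C.index = Nat.card N :=
      Nat.eq_of_mul_eq_mul_left Nat.card_pos ((C.card_mul_index).trans (by rw [← hNC.card_mul, mul_comm]))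
    have hco : (Nat.card C).Coprime (Nat.card N) := by
      have h1 := Cfsg.Agent.Solv.frob_index_mod hFrob
      rw [hindex] at h1
      rw [Nat.coprime_iff_gcd_eq_one, Nat.gcd_rec, h1]
      rw [← Nat.gcd_rec]
      simp
    -- an invariant Sylow subgroup of the kernel
    obtain ⟨r, hr, hrN⟩ := Nat.exists_prime_and_dvd (n := Nat.card N) fun h => hNbot (Subgroup.card_eq_one.1 h)
    haveI := Fact.mk hr
    obtain ⟨R, hR, hCR⟩ := Cfsg.Agent.Solv.exists_invariant_sylow
      (hAK := (le_top.trans (Subgroup.normalizer_eq_top_iff.2 hNn).ge : C ≤ Subgroup.normalizer (N : Set (G ⧸ Z))))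
      (hco := hco) (hsol := Or.inl hCsol) r
    have hRbot : R ≠ ⊥ := fun h => by
      have h1 := hR.2
      rw [h, Subgroup.card_bot] at h1
      rcases Nat.pow_eq_one.1 h1.symm with h2 | h2
      · exact hr.ne_one h2
      · exact (hr.factorization_pos_of_dvd Nat.card_pos.ne' hrN).ne' h2
    set H := R ⊔ C with hH
    have hHsol : Group.IsSolvable H := by
      haveI : (R.subgroupOf H).Normal := Subgroup.normal_subgroupOf_of_le_normalizer
        (sup_le Subgroup.le_normalizer hCR)
      haveI : Group.IsNilpotent R := hR.isPGroup.isNilpotent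
      have hs := solvable_sup (R.subgroupOf H)
        (solvable_of_equiv (Subgroup.subgroupOfEquivOfLe le_sup_left)) (C.subgroupOf H)
        (by
          haveI := hCsol
          exact solvable_of_equiv (Subgroup.subgroupOfEquivOfLe le_sup_right))
      rw [← Subgroup.subgroupOf_sup le_sup_left le_sup_right, Subgroup.subgroupOf_self] at hs
      haveI := hs
      exact solvable_of_equiv Subgroup.topEquiv.symm
    have hpre : Group.IsSolvable (H.comap π) := by
      haveI := hHsol
      let g : ↥(H.comap π) →* H := (π.comp (H.comap π).subtype).codRestrict H fun x => x.2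
      haveI : Group.IsSolvable Z := Group.isSolvable_of_comm fun a b => Subtype.ext (Subgroup.mem_center_iff.1 b.2 a)
      refine Group.isSolvable_of_ker_le_range (Subgroup.inclusion (show Z ≤ H.comap π from fun z hz => by
        show π z ∈ H
        rw [show π z = 1 from (QuotientGroup.eq_one_iff z).2 hz]
        exact one_mem H)) g fun x hx => ?_
      exact ⟨⟨x, (QuotientGroup.eq_one_iff _).1 (congrArg Subtype.val hx)⟩, rfl⟩
    have hle : H.comap π ≤ M := fun x hx => Subgroup.mem_centralizer_iff.2 fun a ha =>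
      hc _ (fun a' ha' => (Subgroup.mem_sup_right ⟨a', hAM ha', rfl⟩ : π a' ∈ H)) hpre a ha x hx
    refine hRbot (le_bot_iff.1 (hdisj ▸ le_inf hR.1 fun q hq => ?_))
    obtain ⟨x, rfl⟩ := QuotientGroup.mk'_surjective Z q
    exact (hπM x).2 (hle (Subgroup.mem_sup_left hq))

end Cfsg.Agent.FGS.CentralInSolvable
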